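import Groth.Agent.QCoh.AlgGen

/-!
# Quasi-coherent subalgebras of finite type

The subalgebra of a quasi-coherent algebra generated by a quasi-coherent submodule of finite type.
-/

universe u

set_option autoImplicit false
set_option backward.isDefEq.respectTransparency false
set_option backward.isDefEq.respectTransparency.types false

open CategoryTheory CategoryTheory.Limits AlgebraicGeometry TopologicalSpace Opposite

namespace Groth.Agent.QCohSup92

open Groth.Agent.QCoh

variable {X : Scheme.{u}} (B : RelSpec.QCAlg X) (N : SubMod B.toModule)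

theorem rB_rB {U V W : X.Opens} (h : V ≤ U) (h' : W ≤ V) (b : B.presheaf.obj (op U)) :
    rB B h' (rB B h b) = rB B (h'.trans h) b :=
  (congr($(B.presheaf.map_comp (homOfLE h).op (homOfLE h').op).hom b)).symm

theorem rB_self {U : X.Opens} (h : U ≤ U) (b : B.presheaf.obj (op U)) : rB B h b = b :=
  congr($(B.presheaf.map_id (op U)).hom b)

/-- The sections lying locally in the generated subring. -/
noncomputable def locRing (O : X.Opens) : Subring (B.presheaf.obj (op O)) where
  carrier := {b | ∀ x ∈ O, ∃ (P : X.Opens) (hP : P ≤ O), x ∈ P ∧ rB B hP b ∈ genRing B N P}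
  zero_mem' x hx := ⟨O, le_rfl, hx, by rw [map_zero]; exact zero_mem _⟩
  one_mem' x hx := ⟨O, le_rfl, hx, by rw [map_one]; exact one_mem _⟩
  neg_mem' {a} ha x hx := by
    obtain ⟨P, hP, hxP, h⟩ := ha x hx
    exact ⟨P, hP, hxP, by rw [map_neg]; exact neg_mem h⟩
  add_mem' {a b} ha hb x hx := by
    obtain ⟨P, hP, hxP, h1⟩ := ha x hx
    obtain ⟨Q, hQ, hxQ, h2⟩ := hb x hx
    refine ⟨P ⊓ Q, inf_le_left.trans hP, ⟨hxP, hxQ⟩, ?_⟩
    rw [map_add]
    refine add_mem ?_ ?_
    · have := rB_mem_genRing B N (inf_le_left : P ⊓ Q ≤ P) h1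
      rwa [rB_rB] at this
    · have := rB_mem_genRing B N (inf_le_right : P ⊓ Q ≤ Q) h2
      rwa [rB_rB] at this
  mul_mem' {a b} ha hb x hx := by
    obtain ⟨P, hP, hxP, h1⟩ := ha x hx
    obtain ⟨Q, hQ, hxQ, h2⟩ := hb x hx
    refine ⟨P ⊓ Q, inf_le_left.trans hP, ⟨hxP, hxQ⟩, ?_⟩
    rw [map_mul]
    refine mul_mem ?_ ?_
    · have := rB_mem_genRing B N (inf_le_left : P ⊓ Q ≤ P) h1
      rwa [rB_rB] at this
    · have := rB_mem_genRing B N (inf_le_right : P ⊓ Q ≤ Q) h2
      rwa [rB_rB] at this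

theorem genRing_le_locRing (O : X.Opens) : genRing B N O ≤ locRing B N O :=
  fun b hb x hx => ⟨O, le_rfl, hx, by rwa [rB_self]⟩

theorem rB_mem_locRing {U V : X.Opens} (h : V ≤ U) {b : B.presheaf.obj (op U)}
    (hb : b ∈ locRing B N U) : rB B h b ∈ locRing B N V := by
  intro x hx
  obtain ⟨P, hP, hxP, h1⟩ := hb x (h hx)
  refine ⟨P ⊓ V, inf_le_right, ⟨hxP, hx⟩, ?_⟩
  have := rB_mem_genRing B N (inf_le_left : P ⊓ V ≤ P) h1
  rwa [rB_rB] at this ⊢

theorem mem_locRing_of_locally {U : X.Opens} {b : B.presheaf.obj (op U)}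
    (h : ∀ x ∈ U, ∃ (P : X.Opens) (hP : P ≤ U), x ∈ P ∧ rB B hP b ∈ locRing B N P) :
    b ∈ locRing B N U := by
  intro x hx
  obtain ⟨P, hP, hxP, h1⟩ := h x hx
  obtain ⟨Q, hQ, hxQ, h2⟩ := h1 x hxP
  exact ⟨Q, hQ.trans hP, hxQ, by rwa [rB_rB] at h2⟩

variable {B N}

/-- On an affine open the local and the global generated subrings agree. -/
theorem locRing_eq_genRing (hN : FTOn N ⊤) {U : X.Opens} (hU : IsAffineOpen U) :
    locRing B N U = genRing B N U := by
  refine le_antisymm (fun b hb => ?_) (genRing_le_locRing B N U)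
  let I : Ideal Γ(X, U) :=
  { carrier := {a | (B.str.app (op U)).hom a * b ∈ genRing B N U}
    zero_mem' := by
      show (B.str.app (op U)).hom 0 * b ∈ genRing B N U
      rw [map_zero, zero_mul]; exact zero_mem _
    add_mem' := fun {a c} ha hc => by
      show (B.str.app (op U)).hom (a + c) * b ∈ genRing B N U
      rw [map_add, add_mul]; exact add_mem ha hc
    smul_mem' := fun r a ha => by
      show (B.str.app (op U)).hom (r * a) * b ∈ genRing B N U
      rw [map_mul, mul_assoc]; exact mul_mem (str_mem_genRing B N r) ha }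
  have hI : I.radical = ⊤ := by
    refine top_unique ((hU.self_le_iSup_basicOpen_iff (s := (I.radical : Set Γ(X, U)))).1 ?_
      |>.ge.trans (Ideal.span_le.2 subset_rfl))
    intro x hx
    obtain ⟨P, hP, hxP, hbP⟩ := hb x hx
    obtain ⟨g, hgP, hxg⟩ := hU.exists_basicOpen_le ⟨x, hxP⟩ hx
    have hg : rB B (X.basicOpen_le g) b ∈ genRing B N (X.basicOpen g) := by
      have := rB_mem_genRing B N hgP hbP
      rwa [rB_rB] at this
    obtain ⟨n, c, hc, hcb⟩ := exists_lift_genRing B hN hU g hg
    let bM : Γ(B.toModule, U) := b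
    have h0 : rs B.toModule (X.basicOpen_le g) (g ^ n • bM - (show Γ(B.toModule, U) from c)) = 0 := by
      show rB B (X.basicOpen_le g) ((B.str.app (op U)).hom (g ^ n) * b - c) = 0
      rw [map_sub, map_mul, map_pow, map_pow, rB_str, hcb, sub_self]
    obtain ⟨m, hm⟩ := exists_pow_smul_eq_zero (isQCoh_toModule B) hU g _ h0
    refine Opens.mem_iSup.2 ⟨⟨g, ⟨m + n, ?_⟩⟩, hxg⟩
    show (B.str.app (op U)).hom (g ^ (m + n)) * b ∈ genRing B N U
    have hm' : (B.str.app (op U)).hom (g ^ m) * ((B.str.app (op U)).hom (g ^ n) * b - c) = 0 := hm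
    rw [mul_sub, sub_eq_zero, ← mul_assoc, ← map_mul, ← pow_add] at hm'
    rw [hm']
    exact mul_mem (str_mem_genRing B N _) hc
  have h1 : (1 : Γ(X, U)) ∈ I := (Ideal.eq_top_iff_one _).1 (Ideal.radical_eq_top.1 hI)
  have h2 : (B.str.app (op U)).hom 1 * b ∈ genRing B N U := h1
  rwa [map_one, one_mul] at h2

variable (B N)

/-- The presheaf of generated subrings. -/
noncomputable def subPresheaf : TopCat.Presheaf CommRingCat.{u} X.carrier where
  obj O := CommRingCat.of (locRing B N O.unop)
  map {U V} i := CommRingCat.ofHom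
    (((rB B (leOfHom i.unop)).comp (locRing B N U.unop).subtype).codRestrict _
      fun b => rB_mem_locRing B N _ b.2)
  map_id U := by
    ext b
    exact congr($(B.presheaf.map_id U).hom b.1)
  map_comp {U V W} i j := by
    ext b
    exact congr($(B.presheaf.map_comp i j).hom b.1)

/-- The inclusion. -/
noncomputable def subIncl : subPresheaf B N ⟶ B.presheaf where
  app O := CommRingCat.ofHom (locRing B N O.unop).subtype
  naturality _ _ _ := rfl

/-- The structure map. -/
noncomputable def subStr : X.presheaf ⟶ subPresheaf B N where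
  app O := CommRingCat.ofHom ((B.str.app O).hom.codRestrict _
    fun a => genRing_le_locRing B N _ (str_mem_genRing B N a))
  naturality U V i := by
    ext a
    exact Subtype.ext congr($(B.str.naturality i).hom a)

theorem isSheaf_subPresheaf : (subPresheaf B N).IsSheaf := by
  refine (TopCat.Presheaf.isSheaf_iff_isSheafUniqueGluing (X := X.toPresheafedSpace.carrier)
    (subPresheaf B N)).2 fun ι U sf hsf => ?_
  obtain ⟨s, hs, huniq⟩ := (TopCat.Presheaf.isSheaf_iff_isSheafUniqueGluing (X := X.toPresheafedSpace.carrier)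
    B.presheaf).1 B.isSheaf U (fun i => (sf i).1) (fun i j => congrArg Subtype.val (hsf i j))
  have hmem : s ∈ locRing B N (iSup U) := mem_locRing_of_locally B N fun x hx => by
    obtain ⟨i, hi⟩ := Opens.mem_iSup.1 hx
    exact ⟨U i, le_iSup U i, hi, by
      have h := hs i
      exact h ▸ (sf i).2⟩
  exact ⟨⟨s, hmem⟩, fun i => Subtype.ext (hs i), fun t ht =>
    Subtype.ext (huniq t.1 fun i => congrArg Subtype.val (ht i))⟩

variable {N}

theorem isQC_subPresheaf (hN : FTOn N ⊤) : RelSpec.IsQC (subPresheaf B N) (subStr B N) := by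
  intro U hU f
  letI := ((subPresheaf B N).map (homOfLE (X.basicOpen_le f)).op).hom.toAlgebra
  letI := (B.presheaf.map (homOfLE (X.basicOpen_le f)).op).hom.toAlgebra
  haveI := B.isQC U hU f
  constructor
  refine ⟨?_, fun z => ?_, fun {a b} e => ?_⟩
  · rintro ⟨_, n, rfl⟩
    rw [map_pow]
    refine IsUnit.pow n ?_
    have h := (isUnit_rf_basicOpen f).map ((subStr B N).app (op (X.basicOpen f))).hom
    have h2 := congr($((subStr B N).naturality (homOfLE (X.basicOpen_le f)).op).hom f)
    exact h2 ▸ h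
  · have hz := z.2
    simp only [locRing_eq_genRing hN (hU.basicOpen f)] at hz
    obtain ⟨n, c, hc, hcz⟩ := exists_lift_genRing B hN hU f hz
    refine ⟨⟨⟨c, genRing_le_locRing B N U hc⟩, _, n, rfl⟩, Subtype.ext ?_⟩
    show (show B.presheaf.obj (op (X.basicOpen f)) from z.1) *
      rB B (X.basicOpen_le f) ((((subStr B N).app (op U)).hom f ^ n).1) = rB B (X.basicOpen_le f) c
    rw [hcz, SubmonoidClass.coe_pow, map_pow]
    rw [show ((((subStr B N).app (op U)).hom f)).1 = (B.str.app (op U)).hom f from rfl, rB_str, mul_comm]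
  · obtain ⟨⟨_, n, rfl⟩, hn⟩ := IsLocalization.exists_of_eq (M := Submonoid.powers ((B.str.app (op U)).hom f))
      (S := B.presheaf.obj (op (X.basicOpen f))) (congrArg Subtype.val e)
    exact ⟨⟨_, n, rfl⟩, Subtype.ext (by
      show (((subStr B N).app (op U)).hom f ^ n).1 * a.1 = (((subStr B N).app (op U)).hom f ^ n).1 * b.1
      rw [SubmonoidClass.coe_pow]
      exact hn)⟩

/-- The generated quasi-coherent subalgebra. -/
noncomputable def subAlg (hN : FTOn N ⊤) : RelSpec.QCAlg X where
  presheaf := subPresheaf B N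
  isSheaf := isSheaf_subPresheaf B N
  str := subStr B N
  isQC := isQC_subPresheaf B hN

/-- Its inclusion. -/
noncomputable def subAlgHom (hN : FTOn N ⊤) : subAlg B hN ⟶ B := ⟨subIncl B N, rfl⟩

theorem subAlg_finiteType (hN : FTOn N ⊤) (V : X.affineOpens) :
    ((subAlg B hN).str.app (op (V : X.Opens))).hom.FiniteType := by
  have hG := isQCoh_toModule B
  haveI := finite_of_isFT (isQCoh_of_ftOn hG hN) (isFT_of_ftOn hG hN) V.2
  obtain ⟨S, hS⟩ := Module.Finite.fg_top (R := Γ(X, V.1)) (M := Γ(N.toModules, V.1))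
  letI : Algebra Γ(X, V.1) (locRing B N V.1) :=
    ((B.str.app (op V.1)).hom.codRestrict _
      fun a => genRing_le_locRing B N _ (str_mem_genRing B N a)).toAlgebra
  show Algebra.FiniteType Γ(X, V.1) (locRing B N V.1)
  classical
  let T : Finset (locRing B N V.1) := S.image fun t =>
    (⟨N.ι.app V.1 t, genRing_le_locRing B N V.1 (Subring.subset_closure (Or.inr (N.ι_app_mem V.1 t)))⟩ :
      locRing B N V.1)
  refine ⟨⟨T, ?_⟩⟩
  refine eq_top_iff.2 fun z _ => ?_
  have hz : (z.1 : B.presheaf.obj (op V.1)) ∈ genRing B N V.1 :=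
    (locRing_eq_genRing hN V.2).le z.2
  let A := (Algebra.adjoin Γ(X, V.1) (T : Set (locRing B N V.1))).toSubring.map
    (locRing B N V.1).subtype
  suffices h : genRing B N V.1 ≤ A by
    obtain ⟨w, hw, hwz⟩ := h hz
    exact (Subtype.ext hwz : w = z) ▸ hw
  refine Subring.closure_le.2 (Set.union_subset ?_ ?_)
  · rintro _ ⟨a, rfl⟩
    exact ⟨_, Subalgebra.algebraMap_mem _ a, rfl⟩
  · intro s hs
    obtain ⟨t, rfl⟩ := N.exists_app_eq hs
    have ht : t ∈ Submodule.span Γ(X, V.1) (S : Set Γ(N.toModules, V.1)) := hS ▸ Submodule.mem_top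
    clear hs
    induction ht using Submodule.span_induction with
    | mem x hx =>
      exact ⟨_, Algebra.subset_adjoin (Finset.mem_coe.2 (Finset.mem_image_of_mem _ hx)), rfl⟩
    | zero => rw [map_zero]; exact zero_mem A
    | add x y _ _ hx hy => rw [map_add]; exact add_mem hx hy
    | smul a x _ hx =>
      rw [ι_app_smul]
      exact mul_mem (show (B.str.app (op V.1)).hom a ∈ A from ⟨_, Subalgebra.algebraMap_mem _ a, rfl⟩) hx

/-- A section over an affine open lies in a subalgebra of finite type. -/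
theorem exists_finiteType_subalgebra (U : X.affineOpens) (hs : ExtStep U.1)
    (b : B.presheaf.obj (op (U : X.Opens))) :
    ∃ (B' : RelSpec.QCAlg X) (φ : B' ⟶ B),
      (∀ V : X.Opens, Function.Injective (φ.hom.app (op V)).hom) ∧
      (∀ V : X.affineOpens, (B'.str.app (op (V : X.Opens))).hom.FiniteType) ∧
      b ∈ Set.range (φ.hom.app (op (U : X.Opens))).hom := by
  obtain ⟨N, hN, hb⟩ := exists_ftOn_contains (isQCoh_toModule B) U.2 hs
    ({(show Γ(B.toModule, U.1) from b)}) (Set.finite_singleton _)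
  exact ⟨subAlg B hN, subAlgHom B hN, fun V => Subtype.val_injective, subAlg_finiteType B hN,
    ⟨⟨b, genRing_le_locRing B N U.1 (Subring.subset_closure (Or.inr (hb rfl)))⟩, rfl⟩⟩

end Groth.Agent.QCohSup92
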